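import Cfsg.Prelude.Def_Blocks
import Cfsg.Agent.S2425
import Cfsg.Agent.FlagChar.Unipotent
import Cfsg.Agent.Characters.Linear
import Cfsg.Agent.Linear.SylowChar

/-!
# The Steinberg character of `SL(n, F)` has defect zero

The Steinberg character of `GL(n, F)` is non-zero at `diag(a, 1, …, 1)`, so its restriction to
`SL(n, F)` is irreducible.
-/

set_option autoImplicit false
set_option linter.style.haveILetI false
set_option linter.unusedSectionVars false

namespace CfsgLib.SLDefect

open scoped ComplexConjugate MatrixGroups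

universe u

variable {F : Type u} [Field F] [Fintype F] {n : ℕ}

noncomputable instance fintypeDetChar : Fintype (Fˣ →* ℂˣ) := by
  haveI : NeZero (Monoid.exponent Fˣ : ℂ) :=
    ⟨Nat.cast_ne_zero.2 Monoid.exponent_ne_zero_of_finite⟩
  haveI : Finite (Fˣ →* ℂˣ) :=
    Finite.of_equiv Fˣ (CommGroup.monoidHom_mulEquiv_of_hasEnoughRootsOfUnity Fˣ ℂ).some.toEquiv.symm
  exact Fintype.ofFinite _

theorem sum_detChar [DecidableEq F] (a : Fˣ) :
    ∑ lam : Fˣ →* ℂˣ, (lam a : ℂ) = if a = 1 then (Nat.card Fˣ : ℂ) else 0 := by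
  haveI : NeZero (Monoid.exponent Fˣ : ℂ) :=
    ⟨Nat.cast_ne_zero.2 Monoid.exponent_ne_zero_of_finite⟩
  split_ifs with h
  · subst h
    simp only [map_one, Units.val_one, Finset.sum_const, Finset.card_univ, nsmul_eq_mul, mul_one]
    rw [← Nat.card_eq_fintype_card, CommGroup.card_monoidHom_of_hasEnoughRootsOfUnity Fˣ ℂ]
  · obtain ⟨φ, hφ⟩ := CommGroup.exists_apply_ne_one_of_hasEnoughRootsOfUnity Fˣ ℂ h
    have hsum : (φ a : ℂ) * ∑ lam : Fˣ →* ℂˣ, (lam a : ℂ) = ∑ lam : Fˣ →* ℂˣ, (lam a : ℂ) := by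
      rw [Finset.mul_sum]
      exact Fintype.sum_equiv (Equiv.mulLeft φ) _ _ fun lam => by simp
    by_contra hne
    exact hφ (Units.ext ((mul_eq_right₀ hne).1 hsum))

theorem conj_detChar (lam : Fˣ →* ℂˣ) (a : Fˣ) :
    (lam a : ℂ) * conj (lam a : ℂ) = 1 := by
  have hn : ‖(lam a : ℂ)‖ = 1 := Complex.norm_eq_one_of_pow_eq_one (n := Nat.card Fˣ)
    (by rw [← Units.val_pow_eq_pow_val, ← map_pow, pow_card_eq_one', map_one, Units.val_one])
    Nat.card_pos.ne'
  rw [Complex.mul_conj', hn]
  simp

open Classical in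
/-- A character of `GL(n, F)` of degree positive, irreducible and fixed by no non-trivial
determinant character restricts irreducibly to `SL(n, F)`. -/
theorem isIrr_restrict_SL {χ : GL (Fin n) F → ℂ} (hχ : Cfsg.IsIrrCharacter (GL (Fin n) F) χ)
    (hfix : ∀ lam : Fˣ →* ℂˣ,
      (fun g => (lam (Matrix.GeneralLinearGroup.det g) : ℂ) * χ g) = χ → lam = 1) :
    Cfsg.IsIrrCharacter (Matrix.SpecialLinearGroup (Fin n) F)
      (fun s => χ (Matrix.SpecialLinearGroup.toGL s)) := by
  classical
  have hc := CfsgLib.Characters.isCharacter_of_isIrr hχ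
  obtain ⟨m, hm0, hm⟩ := CfsgLib.Characters.exists_degree_pos hχ
  have hirr : ∀ lam : Fˣ →* ℂˣ, Cfsg.IsIrrCharacter (GL (Fin n) F)
      (fun g => (lam (Matrix.GeneralLinearGroup.det g) : ℂ) * χ g) := by
    intro lam
    have hmul : Cfsg.IsCharacter (GL (Fin n) F)
        (fun g => (lam (Matrix.GeneralLinearGroup.det g) : ℂ) * χ g) :=
      CfsgLib.Characters.isCharacter_mul (CfsgLib.Characters.isCharacter_of_isIrr
        (CfsgLib.Characters.isIrr_linChar (lam.comp Matrix.GeneralLinearGroup.det))) hc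
    have := CfsgLib.FlagChar.isIrr_of_norm_one ({()} : Finset Unit) (fun _ => 1)
      (fun _ g => (lam (Matrix.GeneralLinearGroup.det g) : ℂ) * χ g) (fun _ _ => hmul)
      (by
        simp only [Finset.sum_singleton, Int.cast_one, one_smul]
        rw [← CfsgLib.Characters.classInner_isIrr_self hχ]
        simp only [Cfsg.classInner]
        congr 1
        refine Finset.sum_congr rfl fun g _ => ?_
        rw [map_mul, mul_mul_mul_comm, conj_detChar, one_mul])
      (by
        simp only [Finset.sum_singleton, Int.cast_one, one_smul, map_one, Units.val_one, one_mul,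
          hm, Complex.natCast_re]
        exact_mod_cast hm0)
    simpa using this
  have hS : Cfsg.IsCharacter (Matrix.SpecialLinearGroup (Fin n) F)
      (fun s => χ (Matrix.SpecialLinearGroup.toGL s)) :=
    CfsgLib.Characters.isCharacter_comp Matrix.SpecialLinearGroup.toGL hc
  have key : Cfsg.classInner (fun s => χ (Matrix.SpecialLinearGroup.toGL s))
      (fun s => χ (Matrix.SpecialLinearGroup.toGL s)) = 1 := by
    have hsum : ∑ lam : Fˣ →* ℂˣ,
        Cfsg.classInner (fun g => (lam (Matrix.GeneralLinearGroup.det g) : ℂ) * χ g) χ = 1 := by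
      rw [Finset.sum_eq_single (1 : Fˣ →* ℂˣ)]
      · simpa using CfsgLib.Characters.classInner_isIrr_self hχ
      · intro lam _ hlam
        exact CfsgLib.Characters.classInner_isIrr_ne (hirr lam) hχ fun e => hlam (hfix lam e)
      · simp
    rw [← hsum]
    simp only [Cfsg.classInner]
    rw [← Finset.mul_sum, Finset.sum_comm]
    simp only [mul_assoc, ← Finset.sum_mul, sum_detChar, ite_mul, zero_mul]
    rw [← Finset.sum_filter, ← Finset.mul_sum]
    have hbij : ∑ g ∈ Finset.univ.filter (fun g : GL (Fin n) F => Matrix.GeneralLinearGroup.det g = 1),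
        χ g * conj (χ g) =
        ∑ s : Matrix.SpecialLinearGroup (Fin n) F,
          χ (Matrix.SpecialLinearGroup.toGL s) * conj (χ (Matrix.SpecialLinearGroup.toGL s)) := by
      symm
      refine Finset.sum_bij (fun s _ => Matrix.SpecialLinearGroup.toGL s) ?_ ?_ ?_ ?_
      · intro s _
        exact Finset.mem_filter.2 ⟨Finset.mem_univ _, Units.ext s.2⟩
      · intro a _ b _ e
        exact Matrix.SpecialLinearGroup.toGL_injective e
      · intro g hg
        exact ⟨⟨(g : Matrix (Fin n) (Fin n) F),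
          congrArg Units.val (Finset.mem_filter.1 hg).2⟩, Finset.mem_univ _, Units.ext rfl⟩
      · intro s _; rfl
    rw [hbij, ← mul_assoc]
    congr 1
    rcases Nat.eq_zero_or_pos n with hn | hn
    · subst hn
      have h1 : Nat.card (GL (Fin 0) F) = 1 := Nat.card_unique
      have h2 : Nat.card (Matrix.SpecialLinearGroup (Fin 0) F) = 1 := Nat.card_unique
      have h3 : Subsingleton Fˣ := by
        refine ⟨fun a b => ?_⟩
        by_contra hab
        obtain ⟨φ, hφ⟩ := CommGroup.exists_apply_ne_one_of_hasEnoughRootsOfUnity Fˣ ℂ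
          (a := a * b⁻¹) (fun e => hab (mul_inv_eq_one.1 e))
        refine hφ ?_
        have := hfix φ (funext fun g => by rw [Subsingleton.elim g 1]; simp)
        rw [this]; rfl
      rw [h1, h2, Nat.card_unique]
      simp
    · haveI : Nonempty (Fin n) := ⟨⟨0, hn⟩⟩
      have h := CfsgLib.Linear.card_SL_mul (n := Fin n) (F := F)
      have hu : Nat.card Fˣ = Fintype.card F - 1 := by
        rw [Nat.card_eq_fintype_card, Fintype.card_units]
      rw [← h, ← hu]
      push_cast
      have h1 : ((Nat.card Fˣ : ℕ) : ℂ) ≠ 0 := Nat.cast_ne_zero.2 Nat.card_pos.ne'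
      field_simp
  have := CfsgLib.FlagChar.isIrr_of_norm_one ({()} : Finset Unit) (fun _ => 1)
    (fun _ s => χ (Matrix.SpecialLinearGroup.toGL s)) (fun _ _ => hS)
    (by simpa using key)
    (by
      simp only [Finset.sum_singleton, Int.cast_one, one_smul, map_one, hm, Complex.natCast_re]
      exact_mod_cast hm0)
  simpa using this

variable [DecidableEq F]

theorem steinberg_one (p : ℕ) [Fact p.Prime] [CharP F p] (hn : 0 < n) :
    Cfsg.unipotentCharacterGL n F (fun _ => 1) 1 =
      (Fintype.card F : ℂ) ^ (n * (n - 1) / 2) := by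
  classical
  rw [Cfsg.Agent.S2425.result rfl p 1 (by simp), Units.val_one, Matrix.charpoly_one,
    Fintype.card_fin, ← Polynomial.C_1, UniqueFactorizationMonoid.normalizedFactors_pow,
    UniqueFactorizationMonoid.normalizedFactors_irreducible
      (Polynomial.irreducible_X_sub_C (1 : F)),
    Multiset.nsmul_singleton, (Polynomial.monic_X_sub_C (1 : F)).normalize_eq_self,
    Multiset.toFinset_replicate, if_neg hn.ne', Finset.prod_singleton,
    Multiset.count_replicate_self, Polynomial.natDegree_X_sub_C]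
  simp

theorem steinberg_fixed (p : ℕ) [Fact p.Prime] [CharP F p] (hn : 0 < n) (lam : Fˣ →* ℂˣ)
    (h : (fun g => (lam (Matrix.GeneralLinearGroup.det g) : ℂ) *
      Cfsg.unipotentCharacterGL n F (fun _ => 1) g) = Cfsg.unipotentCharacterGL n F (fun _ => 1)) :
    lam = 1 := by
  classical
  refine MonoidHom.ext fun a => ?_
  let dHom : Fˣ →* Matrix (Fin n) (Fin n) F :=
    (Matrix.diagonalRingHom (Fin n) F).toMonoidHom.comp
      ((MonoidHom.mulSingle (fun _ : Fin n => F) ⟨0, hn⟩).comp (Units.coeHom F))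
  let g : GL (Fin n) F := dHom.toHomUnits a
  have hdet : Matrix.GeneralLinearGroup.det g = a := by
    apply Units.ext
    show Matrix.det (Matrix.diagonal (Pi.mulSingle (⟨0, hn⟩ : Fin n) (a : F))) = (a : F)
    rw [Matrix.det_diagonal, Finset.prod_pi_mulSingle']
    simp
  have hord : (orderOf g).Coprime p := by
    have h1 : orderOf g ∣ Nat.card Fˣ :=
      (orderOf_map_dvd dHom.toHomUnits a).trans (orderOf_dvd_natCard a)
    have h2 : ¬ p ∣ Nat.card Fˣ := by
      rw [Nat.card_eq_fintype_card, Fintype.card_units, ← pow_one (Fintype.card F)]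
      exact CfsgLib.Linear.not_dvd_pow_sub_one p one_ne_zero
    exact (((Fact.out : p.Prime).coprime_iff_not_dvd.2 h2).symm).coprime_dvd_left h1
  have hne : Cfsg.unipotentCharacterGL n F (fun _ => 1) g ≠ 0 := by
    rw [Cfsg.Agent.S2425.result rfl p g hord]
    exact Finset.prod_ne_zero_iff.2 fun f _ => mul_ne_zero (pow_ne_zero _ (by norm_num))
      (pow_ne_zero _ (Nat.cast_ne_zero.2 Fintype.card_ne_zero))
  have h1 := congrFun h g
  simp only [hdet] at h1
  rw [MonoidHom.one_apply]
  exact Units.ext ((mul_eq_right₀ hne).1 h1)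

/-- An irreducible character of defect zero. -/
theorem exists_defect_zero (p : ℕ) [Fact p.Prime] [CharP F p] (hn : 0 < n) :
    ∃ θ : Cfsg.IrrCharacter (Matrix.SpecialLinearGroup (Fin n) F),
      ¬ p ∣ Nat.card (Matrix.SpecialLinearGroup (Fin n) F) /
        Cfsg.charDegree (θ : Matrix.SpecialLinearGroup (Fin n) F → ℂ) := by
  classical
  set q := Fintype.card F with hq
  set N := n * (n - 1) / 2 with hN
  have hirr := CfsgLib.FlagChar.isIrrCharacter_unipotent (F := F) (fun _ : Fin n => 1)
    monotone_const (by simp)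
  have hθ := isIrr_restrict_SL hirr (steinberg_fixed p hn)
  refine ⟨⟨_, hθ⟩, ?_⟩
  have hd : Cfsg.charDegree (fun s : Matrix.SpecialLinearGroup (Fin n) F =>
      Cfsg.unipotentCharacterGL n F (fun _ => 1) (Matrix.SpecialLinearGroup.toGL s)) = q ^ N := by
    rw [Cfsg.charDegree, map_one, steinberg_one p hn, ← Nat.cast_pow, Complex.natCast_re,
      Nat.floor_natCast]
  rw [hd]
  haveI : Nonempty (Fin n) := ⟨⟨0, hn⟩⟩
  have h := CfsgLib.Linear.card_SL_mul (n := Fin n) (F := F)
  rw [CfsgLib.Linear.card_GL, CfsgLib.Linear.prod_pow_sub_pow, Fintype.card_fin, ← hq, ← hN] at h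
  set r := ∏ i ∈ Finset.range n, (q ^ (i + 1) - 1)
  have hr : ¬ p ∣ r := CfsgLib.Linear.not_dvd_prod_pow_sub_one (F := F) p n
  have hdvd : q ^ N ∣ Nat.card (Matrix.SpecialLinearGroup (Fin n) F) := by
    have h1 : Nat.Coprime (q ^ N) (q - 1) := Nat.Coprime.pow_left _
      ((Nat.coprime_self_sub_right (Nat.one_le_iff_ne_zero.2 Fintype.card_ne_zero)).2
        (Nat.coprime_one_right q))
    exact h1.dvd_of_dvd_mul_left ⟨r, h⟩
  obtain ⟨m, hm⟩ := hdvd
  have hq0 : 0 < q ^ N := pow_pos Fintype.card_pos _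
  rw [hm, Nat.mul_div_cancel_left _ hq0]
  rw [hm, mul_left_comm] at h
  exact fun hp => hr ((Nat.eq_of_mul_eq_mul_left hq0 h) ▸ hp.mul_left _)

end CfsgLib.SLDefect
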