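import Cfsg.Agent.SLDefect.Steinberg
import Cfsg.Agent.Characters.DefectZero

/-!
# The Steinberg character of `PSL(n, F)`
-/

set_option autoImplicit false
set_option linter.style.haveILetI false
set_option linter.unusedSectionVars false

namespace CfsgLib.SLDefect

open scoped MatrixGroups

universe u

variable {F : Type u} [Field F] [Fintype F] [DecidableEq F] {n : ℕ}

theorem steinberg_scalar (p : ℕ) [Fact p.Prime] [CharP F p] (hn : 0 < n) {g : GL (Fin n) F} {c : F}
    (hg : (g : Matrix (Fin n) (Fin n) F) = Matrix.scalar (Fin n) c) :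
    Cfsg.unipotentCharacterGL n F (fun _ => 1) g = (Fintype.card F : ℂ) ^ (n * (n - 1) / 2) := by
  classical
  haveI : Nonempty (Fin n) := ⟨⟨0, hn⟩⟩
  have hc : c ≠ 0 := by
    rintro rfl
    have hu := (Matrix.isUnit_iff_isUnit_det _).1 g.isUnit
    rw [hg, map_zero, Matrix.det_zero] at hu
    exact not_isUnit_zero hu
  have hpow : g ^ Nat.card Fˣ = 1 := by
    apply Units.ext
    rw [Units.val_pow_eq_pow_val, hg, ← map_pow, Nat.card_eq_fintype_card, Fintype.card_units,
      FiniteField.pow_card_sub_one_eq_one c hc, map_one, Units.val_one]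
  have hord : (orderOf g).Coprime p := by
    have h1 : orderOf g ∣ Nat.card Fˣ := orderOf_dvd_of_pow_eq_one hpow
    have h2 : ¬ p ∣ Nat.card Fˣ := by
      rw [Nat.card_eq_fintype_card, Fintype.card_units, ← pow_one (Fintype.card F)]
      exact CfsgLib.Linear.not_dvd_pow_sub_one p one_ne_zero
    exact (((Fact.out : p.Prime).coprime_iff_not_dvd.2 h2).symm).coprime_dvd_left h1
  have hcp : (g : Matrix (Fin n) (Fin n) F).charpoly = (Polynomial.X - Polynomial.C c) ^ n := by
    rw [hg, Matrix.scalar_apply, Matrix.charpoly_diagonal, Finset.prod_const, Finset.card_univ,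
      Fintype.card_fin]
  rw [Cfsg.Agent.S2425.result rfl p g hord, hcp, UniqueFactorizationMonoid.normalizedFactors_pow,
    UniqueFactorizationMonoid.normalizedFactors_irreducible (Polynomial.irreducible_X_sub_C c),
    Multiset.nsmul_singleton, (Polynomial.monic_X_sub_C c).normalize_eq_self,
    Multiset.toFinset_replicate, if_neg hn.ne', Finset.prod_singleton,
    Multiset.count_replicate_self, Polynomial.natDegree_X_sub_C]
  simp

open Classical in
/-- An irreducible character of `PSL(n, F)` of degree the order of a Sylow `p`-subgroup, vanishing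
off `1` on the `p`-elements. -/
theorem exists_steinberg_PSL (p : ℕ) [Fact p.Prime] [CharP F p] (hn : 0 < n) :
    ∃ χ : Matrix.ProjectiveSpecialLinearGroup (Fin n) F → ℂ,
      Cfsg.IsIrrCharacter (Matrix.ProjectiveSpecialLinearGroup (Fin n) F) χ ∧
      ∀ P : Sylow p (Matrix.ProjectiveSpecialLinearGroup (Fin n) F), χ 1 = Nat.card P ∧
        ∀ x : Matrix.ProjectiveSpecialLinearGroup (Fin n) F, x ∈ P → x ≠ 1 → χ x = 0 := by
  haveI : Nonempty (Fin n) := ⟨⟨0, hn⟩⟩
  set q := Fintype.card F with hq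
  set N := n * (n - 1) / 2 with hN
  have hirr := CfsgLib.FlagChar.isIrrCharacter_unipotent (F := F) (fun _ : Fin n => 1)
    monotone_const (by simp)
  have hθ := isIrr_restrict_SL hirr (steinberg_fixed p hn)
  obtain ⟨ψ, hψ, hψv⟩ := CfsgLib.Characters.exists_irr_quotient
    (Subgroup.center (Matrix.SpecialLinearGroup (Fin n) F)) hθ fun z hz => by
      obtain ⟨r, -, hr⟩ := Matrix.SpecialLinearGroup.mem_center_iff.1 hz
      rw [map_one, steinberg_one p hn, steinberg_scalar p hn (c := r) hr.symm]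
  refine ⟨ψ, hψ, fun P => ?_⟩
  obtain ⟨a, -, hqa'⟩ := CfsgLib.Linear.card_eq_prime_pow (F := F) p
  have hqa : q = p ^ a := hqa'
  have hψ1 : ψ 1 = ((q ^ N : ℕ) : ℂ) := by
    have h1 := hψv 1
    rw [map_one, steinberg_one p hn] at h1
    push_cast
    exact h1.symm
  set r := ∏ i ∈ Finset.range n, (q ^ (i + 1) - 1) with hr
  have hrp : ¬ p ∣ r := CfsgLib.Linear.not_dvd_prod_pow_sub_one (F := F) p n
  have hcard : (q - 1) * (Nat.gcd n (q - 1) *
      Nat.card (Matrix.ProjectiveSpecialLinearGroup (Fin n) F)) = q ^ N * r := by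
    have h1 := CfsgLib.Linear.card_PSL_mul (n := Fin n) (F := F)
    rw [Fintype.card_fin] at h1
    rw [hq, h1, CfsgLib.Linear.card_SL_mul, CfsgLib.Linear.card_GL,
      CfsgLib.Linear.prod_pow_sub_pow, Fintype.card_fin]
  have hfac : (Nat.card (Matrix.ProjectiveSpecialLinearGroup (Fin n) F)).factorization p = a * N := by
    have hq1 : q - 1 ≠ 0 := by
      have := Fintype.one_lt_card (α := F)
      omega
    have hpq1 : ¬ p ∣ q - 1 := by
      rw [← pow_one q]; exact CfsgLib.Linear.not_dvd_pow_sub_one p one_ne_zero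
    have hg0 : Nat.gcd n (q - 1) ≠ 0 := fun h => hn.ne' (Nat.eq_zero_of_gcd_eq_zero_left h)
    have hr0 : r ≠ 0 := fun h => hrp (h ▸ dvd_zero p)
    have h2 := congrArg (fun m : ℕ => m.factorization p) hcard
    rw [Nat.factorization_mul hq1 (mul_ne_zero hg0 Nat.card_pos.ne'),
      Nat.factorization_mul hg0 Nat.card_pos.ne',
      Nat.factorization_mul (pow_ne_zero _ Fintype.card_ne_zero) hr0, Finsupp.add_apply,
      Finsupp.add_apply, Finsupp.add_apply, Nat.factorization_eq_zero_of_not_dvd hpq1,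
      Nat.factorization_eq_zero_of_not_dvd (fun h => hpq1 (h.trans (Nat.gcd_dvd_right _ _))),
      Nat.factorization_eq_zero_of_not_dvd hrp, zero_add, zero_add, add_zero, hqa', ← pow_mul,
      (Fact.out : p.Prime).factorization_pow, Finsupp.single_eq_same] at h2
    exact h2
  have hP : Nat.card P = q ^ N := by
    rw [P.card_eq_multiplicity, hfac, hqa, ← pow_mul]
  refine ⟨by rw [hψ1, hP], fun x hx hx1 => ?_⟩
  obtain ⟨m, ρ, hρ, hρψ⟩ := hψ
  haveI := hρ
  rw [← hρψ]
  have hm : Module.finrank ℂ (Fin m → ℂ) = p ^ (a * N) := by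
    have h1 := Representation.char_one ρ
    rw [hρψ, hψ1, hqa, ← pow_mul] at h1
    exact_mod_cast h1.symm
  refine CfsgLib.Characters.char_eq_zero_of_defect_zero ρ (Fact.out : p.Prime) (n := a * N)
    (hfac ▸ Nat.ordProj_dvd _ p)
    (hfac ▸ Nat.pow_succ_factorization_not_dvd Nat.card_pos.ne' (Fact.out : p.Prime))
    (hm ▸ dvd_rfl) x ?_
  obtain ⟨k, hk⟩ := IsPGroup.iff_orderOf.1 P.isPGroup' ⟨x, hx⟩
  rw [Subgroup.orderOf_mk] at hk
  rw [hk]
  exact dvd_pow_self p (by rintro rfl; rw [pow_zero, orderOf_eq_one_iff] at hk; exact hx1 hk)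

end CfsgLib.SLDefect
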